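import Groth.Agent.LocConst45.AbSerre
import Groth.Prelude.Def_EtRestW
import Mathlib.CategoryTheory.ObjectProperty.Extensions
import Mathlib.Logic.Small.Basic

/-!
Finite locally constant abelian etale sheaves form a weak Serre subcategory; maps are locally constant.
-/

set_option autoImplicit false
set_option backward.isDefEq.respectTransparency.types false
universe u

open CategoryTheory CategoryTheory.Limits AlgebraicGeometry Opposite
open Groth.Agent.Unr55.EtSh

namespace Groth.Agent.LocConst45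

variable {X : Scheme.{u}}

/-- Finitely valued trivialisations near every point. -/
def LocTrivFin (F : EtCoh.Ab X) : Prop :=
  ∀ x : X, ∃ (U : X.Etale) (u : U.left) (M : Type (u + 1)) (_ : AddCommGroup M) (_ : Finite M)
    (σ : M →+ EtCoh.sect F U), U.hom u = x ∧ IsTriv F U σ

/-- Trivialisations near every point. -/
def LocTriv (F : EtCoh.Ab X) : Prop :=
  ∀ x : X, ∃ (U : X.Etale) (u : U.left) (M : Type (u + 1)) (_ : AddCommGroup M)
    (σ : M →+ EtCoh.sect F U), U.hom u = x ∧ IsTriv F U σ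

theorem finiteLocallyConstant_iff (F : EtCoh.Ab X) : EtCoh.IsFiniteLocallyConstant F ↔ LocTrivFin F := by
  constructor
  · rintro ⟨ι, U, hU, h⟩ x
    obtain ⟨i, u, hu⟩ := hU x
    obtain ⟨M, _, _, e⟩ := h i
    obtain ⟨σ, hσ⟩ := exists_triv_of_iso e.some
    exact ⟨U i, u, ULift.{u + 1} M, inferInstance, inferInstance, σ, hu, hσ⟩
  · intro h
    choose U u M hM hfin σ hu hσ using h
    refine ⟨X, U, fun x => ⟨x, u x, hu x⟩, fun x => ?_⟩
    let e : ULift.{u + 1} (Shrink.{0} (M x)) ≃+ M x := AddEquiv.ulift.trans (Shrink.addEquiv.{0} : Shrink.{0} (M x) ≃+ M x)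
    have : Finite (Shrink.{0} (M x)) := Finite.of_equiv _ (equivShrink.{0} (M x))
    exact ⟨Shrink.{0} (M x), inferInstance, inferInstance, exists_iso_of_triv ((hσ x).congr e)⟩

theorem locallyConstant_iff (F : EtCoh.Ab X) : EtRest.IsLocallyConstant F ↔ LocTriv F := by
  constructor
  · rintro ⟨ι, U, hU, h⟩ x
    obtain ⟨i, u, hu⟩ := hU x
    obtain ⟨M, _, e⟩ := h i
    obtain ⟨σ, hσ⟩ := exists_triv_of_iso e.some
    exact ⟨U i, u, M, inferInstance, σ, hu, hσ⟩
  · intro h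
    choose U u M hM σ hu hσ using h
    exact ⟨X, U, fun x => ⟨x, u x, hu x⟩, fun x => ⟨M x, hM x, exists_iso_of_triv (hσ x)⟩⟩

theorem LocTrivFin.locTriv {F : EtCoh.Ab X} (h : LocTrivFin F) : LocTriv F := fun x =>
  let ⟨U, u, M, _, _, σ, hu, hσ⟩ := h x
  ⟨U, u, M, _, σ, hu, hσ⟩

theorem hom_left_comp {V U : X.Etale} (g : V ⟶ U) (v : V.left) : U.hom (g.left v) = V.hom v := by
  rw [← Scheme.Hom.comp_apply]
  exact congrArg (fun k : V.left ⟶ X => k v) (MorphismProperty.Over.w g)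

/-- A map with finite source, trivialised together with its target. -/
theorem exists_common {F G : EtCoh.Ab X} (φ : F ⟶ G) (hF : LocTrivFin F) (hG : LocTriv G) (x : X) :
    ∃ (V : X.Etale) (v : V.left) (M N : Type (u + 1)) (_ : AddCommGroup M) (_ : AddCommGroup N) (_ : Finite M)
      (σ : M →+ EtCoh.sect F V) (τ : N →+ EtCoh.sect G V) (h : M →+ N),
      V.hom v = x ∧ IsTriv F V σ ∧ IsTriv G V τ ∧ ∀ m, φ.hom.app (op V) (σ m) = τ (h m) := by
  obtain ⟨U₁, u₁, M, _, _, σ, hu₁, hσ⟩ := hF x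
  obtain ⟨U₂, u₂, N, _, τ, hu₂, hτ⟩ := hG x
  obtain ⟨W, a, b, w, ha, -⟩ := Groth.Agent.Unr55.LC.exists_overlap (U := U₁) (U' := U₂) (hu₁.trans hu₂.symm)
  have : Module.Finite ℤ M := Module.Finite.of_finite
  obtain ⟨V, g, v, h, hv, hh⟩ := exists_hom φ (σ := (F.obj.map a.op).hom.comp σ) (hτ.restrict b) (𝟙 W) w
  refine ⟨V, v, M, N, inferInstance, inferInstance, inferInstance,
    (F.obj.map (g ≫ 𝟙 W).op).hom.comp ((F.obj.map a.op).hom.comp σ),
    (G.obj.map (g ≫ 𝟙 W).op).hom.comp ((G.obj.map b.op).hom.comp τ), h, ?_,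
    (hσ.restrict a).restrict _, (hτ.restrict b).restrict _, hh⟩
  rw [← hu₁, ← ha, ← hv, hom_left_comp, hom_left_comp]

theorem locTrivFin_kernel {F G : EtCoh.Ab X} (φ : F ⟶ G) (hF : LocTrivFin F) (hG : LocTriv G) :
    LocTrivFin (kernel φ) := fun x => by
  obtain ⟨V, v, M, N, _, _, _, σ, τ, h, hv, hσ, hτ, he⟩ := exists_common φ hF hG x
  obtain ⟨κ, hκ⟩ := kernel_triv φ hσ hτ h he
  exact ⟨V, v, h.ker, inferInstance, inferInstance, κ, hv, hκ⟩

theorem locTrivFin_cokernel {F G : EtCoh.Ab X} (φ : F ⟶ G) (hF : LocTrivFin F) (hG : LocTrivFin G) :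
    LocTrivFin (cokernel φ) := fun x => by
  obtain ⟨U₁, u₁, M, _, _, σ, hu₁, hσ⟩ := hF x
  obtain ⟨U₂, u₂, N, _, _, τ, hu₂, hτ⟩ := hG x
  obtain ⟨W, a, b, w, ha, -⟩ := Groth.Agent.Unr55.LC.exists_overlap (U := U₁) (U' := U₂) (hu₁.trans hu₂.symm)
  have : Module.Finite ℤ M := Module.Finite.of_finite
  obtain ⟨V, g, v, h, hv, hh⟩ := exists_hom φ (σ := (F.obj.map a.op).hom.comp σ) (hτ.restrict b) (𝟙 W) w
  obtain ⟨κ, hκ⟩ := cokernel_triv φ ((hσ.restrict a).restrict (g ≫ 𝟙 W)) ((hτ.restrict b).restrict (g ≫ 𝟙 W)) h hh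
  refine ⟨V, v, N ⧸ h.range, inferInstance, inferInstance, κ, ?_, hκ⟩
  rw [← hu₁, ← ha, ← hv, hom_left_comp, hom_left_comp]

theorem locTrivFin_extension {S : ShortComplex (EtCoh.Ab X)} (hS : S.ShortExact) (h₁ : LocTrivFin S.X₁)
    (h₃ : LocTrivFin S.X₃) : LocTrivFin S.X₂ := fun x => by
  obtain ⟨U₁, u₁, M, _, _, σ, hu₁, hσ⟩ := h₁ x
  obtain ⟨U₂, u₂, N, _, _, τ, hu₂, hτ⟩ := h₃ x
  obtain ⟨W, a, b, w, ha, -⟩ := Groth.Agent.Unr55.LC.exists_overlap (U := U₁) (U' := U₂) (hu₁.trans hu₂.symm)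
  have : Module.Finite ℤ N := Module.Finite.of_finite
  obtain ⟨V, g, v, Q, hv, hQ, hfin⟩ := extension_triv hS (hσ.restrict a) (hτ.restrict b) w
  refine ⟨V, v, Q, inferInstance, hfin inferInstance inferInstance, Q.subtype, ?_, hQ⟩
  rw [← hu₁, ← ha, ← hv, hom_left_comp, hom_left_comp]

theorem flc_weakSerre (X : Scheme.{u}) :
    (∀ (F G : EtCoh.Ab X) (φ : F ⟶ G), EtCoh.IsFiniteLocallyConstant F → EtCoh.IsFiniteLocallyConstant G →
      EtCoh.IsFiniteLocallyConstant (kernel φ) ∧ EtCoh.IsFiniteLocallyConstant (cokernel φ)) ∧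
    ObjectProperty.IsClosedUnderExtensions (fun F : EtCoh.Ab X => EtCoh.IsFiniteLocallyConstant F) := by
  simp only [finiteLocallyConstant_iff]
  exact ⟨fun F G φ hF hG => ⟨locTrivFin_kernel φ hF hG.locTriv, locTrivFin_cokernel φ hF hG⟩,
    ⟨fun hS h₁ h₃ => locTrivFin_extension hS h₁ h₃⟩⟩

/-- The map of sheaves on the slice given by a trivialisation. -/
noncomputable def trivHom {F : EtCoh.Ab X} {U : X.Etale} {M : Type (u + 1)} [AddCommGroup M]
    (σ : M →+ EtCoh.sect F U) :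
    (constantSheaf (X.smallEtaleTopology.over U) AddCommGrpCat.{u + 1}).obj (AddCommGrpCat.of M) ⟶ EtCoh.restr F U :=
  ((sheafificationAdjunction _ _).homEquiv _ _).symm (trivMap σ)

theorem isIso_trivHom {F : EtCoh.Ab X} {U : X.Etale} {M : Type (u + 1)} [AddCommGroup M]
    {σ : M →+ EtCoh.sect F U} (h : IsTriv F U σ) : IsIso (trivHom σ) := by
  have := isLocallyInjective_trivMap h
  have := isLocallySurjective_trivMap h
  rw [trivHom, Adjunction.homEquiv_counit]
  have : IsIso ((presheafToSheaf (X.smallEtaleTopology.over U) AddCommGrpCat.{u + 1}).map (trivMap σ)) :=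
    ((X.smallEtaleTopology.over U).W_iff _).1 ((X.smallEtaleTopology.over U).W_of_isLocallyBijective (trivMap σ))
  exact IsIso.comp_isIso' this inferInstance

theorem trivHom_natural {F G : EtCoh.Ab X} {U : X.Etale} {M N : Type (u + 1)} [AddCommGroup M] [AddCommGroup N]
    {σ : M →+ EtCoh.sect F U} {τ : N →+ EtCoh.sect G U} (φ : F ⟶ G) (h : M →+ N)
    (hh : ∀ m, φ.hom.app (op U) (σ m) = τ (h m)) :
    trivHom σ ≫ (X.smallEtaleTopology.overPullback AddCommGrpCat.{u + 1} U).map φ =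
      (constantSheaf (X.smallEtaleTopology.over U) AddCommGrpCat.{u + 1}).map (AddCommGrpCat.ofHom h) ≫ trivHom τ := by
  let adj := sheafificationAdjunction (X.smallEtaleTopology.over U) AddCommGrpCat.{u + 1}
  refine ((adj.homEquiv_naturality_right_symm (Y := EtCoh.restr F U) (trivMap σ) _).symm.trans ?_).trans
    (adj.homEquiv_naturality_left_symm (Y := EtCoh.restr G U) ((Functor.const (Over U)ᵒᵖ).map (AddCommGrpCat.ofHom h)) (trivMap τ))
  congr 1
  exact NatTrans.ext (funext fun W => ConcreteCategory.hom_ext _ _ fun m => map_trivs φ hh W.unop.hom m)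

/-- Maps from a finite locally constant sheaf are locally constant. -/
theorem exists_cover_constant {F G : EtCoh.Ab X} (φ : F ⟶ G)
    (hF : EtCoh.IsFiniteLocallyConstant F) (hG : EtRest.IsLocallyConstant G) :
    ∃ (ι : Type u) (U : ι → X.Etale), EtCoh.Covers U ∧ ∀ i, ∃ (M N : Type (u + 1)) (_ : AddCommGroup M) (_ : AddCommGroup N)
      (h : M →+ N)
      (α : EtCoh.restr F (U i) ≅ (constantSheaf (X.smallEtaleTopology.over (U i)) AddCommGrpCat.{u + 1}).obj (AddCommGrpCat.of M))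
      (β : EtCoh.restr G (U i) ≅ (constantSheaf (X.smallEtaleTopology.over (U i)) AddCommGrpCat.{u + 1}).obj (AddCommGrpCat.of N)),
      (X.smallEtaleTopology.overPullback AddCommGrpCat.{u + 1} (U i)).map φ ≫ β.hom = α.hom ≫ (constantSheaf (X.smallEtaleTopology.over (U i)) AddCommGrpCat.{u + 1}).map (AddCommGrpCat.ofHom h) := by
  choose V v M N hM hN _ σ τ h hv hσ hτ hh using
    exists_common φ ((finiteLocallyConstant_iff F).1 hF) ((locallyConstant_iff G).1 hG)
  refine ⟨X, V, fun x => ⟨x, v x, hv x⟩, fun x => ⟨M x, N x, hM x, hN x, h x,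
    (@asIso _ _ _ _ (trivHom (σ x)) (isIso_trivHom (hσ x))).symm,
    (@asIso _ _ _ _ (trivHom (τ x)) (isIso_trivHom (hτ x))).symm, ?_⟩⟩
  rw [Iso.symm_hom, Iso.symm_hom, Iso.comp_inv_eq, Category.assoc, Iso.eq_inv_comp]
  exact trivHom_natural φ (h x) (hh x)

theorem irreducible_isIso {F G : EtCoh.Ab X} (a : F ⟶ G) [IrreducibleSpace X] (hinj : Mono a)
    (hloc : ∀ (W : X.Etale) (s : EtCoh.sect G W) (x : W.left), ∃ (V : X.Etale) (g : V ⟶ W) (v : V.left)
      (t : EtCoh.sect F V), g.left v = x ∧ a.hom.app (op V) t = G.obj.map g.op s) : IsIso a := by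
  have : Sheaf.IsLocallySurjective a := ⟨fun {W} s => mem_topology fun x => by
    obtain ⟨V, g, v, t, hv, ht⟩ := hloc W s x
    exact ⟨V, g, v, ⟨t, ht⟩, hv⟩⟩
  have : Epi a := inferInstance
  exact isIso_of_mono_of_epi a

end Groth.Agent.LocConst45
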