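import Groth.Agent.Unr55.Et.Stalk
import Groth.Prelude.Def_EtMod2

/-!
Germs for sheaves of modules on small etale sites.
-/

set_option autoImplicit false
set_option backward.isDefEq.respectTransparency.types false
universe u

open CategoryTheory CategoryTheory.Limits AlgebraicGeometry Opposite
open Groth.Agent.Unr55.EtSh (Pt)

namespace Groth.Agent.LocConst45.Mod

variable {Λ : Type (u + 1)} [CommRing Λ]

instance preservesFilteredColimits_forget_small :
    PreservesFilteredColimitsOfSize.{u, u} (forget (ModuleCat.{u + 1} Λ)) :=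
  preservesFilteredColimitsOfSize_shrink.{u, u + 1, u, u + 1} _

variable {X : Scheme.{u}} {Ω : Type u} [Field Ω] [IsSepClosed Ω] (ξ : Spec (CommRingCat.of Ω) ⟶ X)

/-- Germ of a section at an etale neighbourhood of a geometric point. -/
noncomputable def germ (F : EtModW.Mod Λ X) {U : X.Etale} (t : Pt ξ U) :
    EtModW.sect Λ F U →ₗ[Λ] ((EtModW.stalk Λ ξ).obj F : ModuleCat.{u + 1} Λ) :=
  ((Scheme.pointSmallEtale ξ).toPresheafFiber U t F.obj).hom

theorem exists_germ_eq (F : EtModW.Mod Λ X) (s : ((EtModW.stalk Λ ξ).obj F : ModuleCat.{u + 1} Λ)) :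
    ∃ (U : X.Etale) (t : Pt ξ U) (σ : EtModW.sect Λ F U), germ ξ F t σ = s :=
  (Scheme.pointSmallEtale ξ).toPresheafFiber_jointly_surjective (P := F.obj) s

theorem germ_map (F : EtModW.Mod Λ X) {U V : X.Etale} (g : V ⟶ U) (t : Pt ξ V) (σ : EtModW.sect Λ F U) :
    germ ξ F t (F.obj.map g.op σ) = germ ξ F ((Scheme.pointSmallEtale ξ).fiber.map g t) σ :=
  (Scheme.pointSmallEtale ξ).toPresheafFiber_w_apply g t F.obj σ

theorem germ_eq_zero_iff (F : EtModW.Mod Λ X) {U : X.Etale} (t : Pt ξ U) (σ : EtModW.sect Λ F U) :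
    germ ξ F t σ = 0 ↔ ∃ (V : X.Etale) (g : V ⟶ U) (t' : Pt ξ V),
      (Scheme.pointSmallEtale ξ).fiber.map g t' = t ∧ F.obj.map g.op σ = 0 := by
  have h := (Scheme.pointSmallEtale ξ).toPresheafFiber_eq_iff' (P := F.obj) U t σ 0
  rw [map_zero] at h
  refine h.trans ⟨?_, ?_⟩
  · rintro ⟨V, g, t', h1, h2⟩
    exact ⟨V, g, t', h1, by simpa using h2⟩
  · rintro ⟨V, g, t', h1, h2⟩
    exact ⟨V, g, t', h1, by simpa using h2⟩

theorem stalk_map_germ {F G : EtModW.Mod Λ X} (φ : F ⟶ G) {U : X.Etale} (t : Pt ξ U) (σ : EtModW.sect Λ F U) :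
    (EtModW.stalk Λ ξ).map φ (germ ξ F t σ) = germ ξ G t (φ.hom.app (op U) σ) :=
  (Scheme.pointSmallEtale ξ).toPresheafFiber_naturality_apply φ.hom U t σ

end Groth.Agent.LocConst45.Mod
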