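import Groth.Agent.LocConst45.ModMain
import Groth.Agent.LocConst45.ModStalk
import Groth.Agent.EtCore45.RingSupp

/-!
The constant sheaf is trivial everywhere; subsheaves of constant sheaves on irreducible schemes.
-/

set_option autoImplicit false
set_option backward.isDefEq.respectTransparency.types false
universe u

open CategoryTheory CategoryTheory.Limits AlgebraicGeometry Opposite
open Groth.Agent.Unr55.EtSh hiding germ exists_germ_eq germ_map germ_eq_zero_iff stalk_map_germ preservesFilteredColimits_forget_small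

namespace Groth.Agent.LocConst45.Mod

variable {Λ : Type (u + 1)} [CommRing Λ] {X : Scheme.{u}}

/-- The constant sections of the constant sheaf. -/
noncomputable def constσ (M : (ModuleCat.{u + 1} Λ)) (U : X.Etale) :
    M →ₗ[Λ] EtModW.sect Λ ((constantSheaf X.smallEtaleTopology (ModuleCat.{u + 1} Λ)).obj M) U :=
  ((toSheafify X.smallEtaleTopology ((Functor.const X.Etaleᵒᵖ).obj M)).app (op U)).hom

theorem constσ_map (M : (ModuleCat.{u + 1} Λ)) {U W : X.Etale} (a : W ⟶ U) (m : M) :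
    ((constantSheaf X.smallEtaleTopology (ModuleCat.{u + 1} Λ)).obj M).obj.map a.op (constσ M U m) = constσ M W m :=
  (NatTrans.naturality_apply (toSheafify X.smallEtaleTopology ((Functor.const X.Etaleᵒᵖ).obj M)) a.op m).symm

theorem isTriv_const (M : (ModuleCat.{u + 1} Λ)) (U : X.Etale) :
    IsTriv ((constantSheaf X.smallEtaleTopology (ModuleCat.{u + 1} Λ)).obj M) U (constσ M U) := by
  let P := (Functor.const X.Etaleᵒᵖ).obj M
  refine ⟨fun W a m ⟨x⟩ hm => ?_, fun W a s x => ?_⟩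
  · have h := Presheaf.equalizerSieve_mem X.smallEtaleTopology (toSheafify _ P) (X := op W) m 0
      (((constσ_map M a m).symm.trans hm).trans (map_zero (constσ M W)).symm)
    obtain ⟨V, g, v, hg, -⟩ := (EtCore45.mem_et _).1 h x
    exact hg
  · obtain ⟨V, g, v, ⟨m, hm⟩, -, hv⟩ :=
      (EtCore45.mem_et _).1 (Presheaf.imageSieve_mem X.smallEtaleTopology (toSheafify _ P) (U := op W) s) x
    exact ⟨V, g, v, m, hv, hm.symm.trans (constσ_map M (g ≫ a) m).symm⟩

theorem constσ_natural {M N : (ModuleCat.{u + 1} Λ)} (h : M ⟶ N) (U : X.Etale) (m : M) :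
    ((constantSheaf X.smallEtaleTopology (ModuleCat.{u + 1} Λ)).map h).hom.app (op U) (constσ M U m) = constσ N U (h m) :=
  (ConcreteCategory.congr_hom (congrArg (fun k => k.app (op U))
    (toSheafify_naturality X.smallEtaleTopology ((Functor.const X.Etaleᵒᵖ).map h))) m).symm

theorem isIso_of_generic [IrreducibleSpace X] {Ω : Type u} [Field Ω] [IsSepClosed Ω]
    (ξ : Spec (CommRingCat.of Ω) ⟶ X) (hξ : ξ default = genericPoint X)
    {M' M : (ModuleCat.{u + 1} Λ)} (j : M' ⟶ M) (G : EtModW.Mod Λ X)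
    (a : (constantSheaf X.smallEtaleTopology (ModuleCat.{u + 1} Λ)).obj M' ⟶ G)
    (b : G ⟶ (constantSheaf X.smallEtaleTopology (ModuleCat.{u + 1} Λ)).obj M) [Mono a] [Mono b]
    (hab : a ≫ b = (constantSheaf X.smallEtaleTopology (ModuleCat.{u + 1} Λ)).map j)
    (hst : IsIso ((EtModW.stalk Λ ξ).map a)) : IsIso a := by
  let C := constantSheaf X.smallEtaleTopology (ModuleCat.{u + 1} Λ)
  have key : ∀ (V : X.Etale) (m : M'), b.hom.app (op V) (a.hom.app (op V) (constσ M' V m)) = constσ M V (j m) := fun V m =>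
    (congrArg (fun k : C.obj M' ⟶ C.obj M => k.hom.app (op V) (constσ M' V m)) hab).trans (constσ_natural j V m)
  refine isIso_of_locallySurjective a inferInstance fun W s x => ?_
  obtain ⟨V, g, v, m, hv, hm⟩ := (isTriv_const M W).surj W (𝟙 W) (b.hom.app (op W) s) x
  rw [constσ_map] at hm
  have : Etale V.hom := V.prop
  obtain ⟨t⟩ := EtCore45.exists_pt V ξ (by
    rw [hξ]
    exact ((genericPoint_spec X).mem_open_set_iff V.hom.isOpenMap.isOpen_range).2
      ⟨_, Set.mem_univ _, ⟨v, rfl⟩⟩)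
  obtain ⟨q, hq⟩ := (ConcreteCategory.bijective_of_isIso ((EtModW.stalk Λ ξ).map a)).2 (germ ξ G t (G.obj.map g.op s))
  obtain ⟨V₁, t₁, σ, rfl⟩ := exists_germ_eq ξ (C.obj M') q
  rw [stalk_map_germ] at hq
  obtain ⟨⟨V₂, t₂⟩, c₁, c₂, -⟩ := IsCofiltered.toIsCofilteredOrEmpty.cone_objs
    (C := (Scheme.pointSmallEtale ξ).fiber.Elements) ⟨V, t⟩ ⟨V₁, t₁⟩
  have e0 : germ ξ G t₂ (G.obj.map c₂.val.op (a.hom.app (op V₁) σ) - G.obj.map c₁.val.op (G.obj.map g.op s)) = 0 := by
    rw [map_sub, germ_map, germ_map, c₁.property, c₂.property, hq, sub_self]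
  obtain ⟨V₃, c, t₃, -, h3⟩ := (germ_eq_zero_iff ξ G t₂ _).1 e0
  rw [map_sub, sub_eq_zero] at h3
  obtain ⟨V₄, d, v₄, m', -, hm'⟩ := (isTriv_const M' V₃).surj V₃ (𝟙 V₃) ((C.obj M').obj.map (c ≫ c₂.val).op σ)
    (hom ξ t₃ default)
  rw [constσ_map] at hm'
  have hjm : j m' = m := by
    refine sub_eq_zero.1 ((isTriv_const M V₄).inj V₄ (𝟙 V₄) _ ⟨v₄⟩ ?_)
    rw [constσ_map, map_sub, sub_eq_zero, ← key, ← hm']
    refine Eq.trans ?_ ((congrArg ((C.obj M).obj.map (d ≫ c ≫ c₁.val).op) hm).trans (constσ_map M _ m))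
    rw [← NatTrans.naturality_apply b.hom g.op]
    refine Eq.trans ?_ (NatTrans.naturality_apply b.hom (d ≫ c ≫ c₁.val).op _)
    congr 1
    rw [NatTrans.naturality_apply a.hom d.op, map_comp' G d, map_comp' G c, ← h3]
    congr 1
    exact (NatTrans.naturality_apply a.hom (c ≫ c₂.val).op σ).trans (map_comp' G c c₂.val _)
  refine ⟨V, g, v, constσ M' V m', hv, injective_app_of_mono b V ?_⟩
  rw [key, hjm, ← hm]
  exact (NatTrans.naturality_apply b.hom g.op s).symm

end Groth.Agent.LocConst45.Mod
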