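import Groth.Agent.LocConst45.ModStalk
import Groth.Agent.Unr55.Et.Pull

/-!
Stalks of inverse images of sheaves of modules.
-/

set_option autoImplicit false
set_option backward.isDefEq.respectTransparency.types false
universe u

open CategoryTheory CategoryTheory.Limits AlgebraicGeometry Opposite
open Groth.Agent.Unr55.EtSh (Pt hom mkPt ptUp ptDown ptUp_map ptDown_map ptUp_ptDown ptDown_ptUp)

namespace Groth.Agent.LocConst45.Mod

instance hasLimits_small {Λ : Type (u + 1)} [CommRing Λ] : HasLimitsOfSize.{u, u} (ModuleCat.{u + 1} Λ) :=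
  hasLimitsOfSizeShrink.{u, u, u + 1, u + 1} _

/-- The inverse and direct image adjunction for sheaves of modules. -/
noncomputable abbrev modAdj (Λ : Type (u + 1)) [CommRing Λ] {X Y : Scheme.{u}} (f : X ⟶ Y) :
    EtModW.pull Λ f ⊣ EtModW.push Λ f :=
  (EtCoh.bc f).sheafAdjunctionContinuous (ModuleCat.{u + 1} Λ) Y.smallEtaleTopology X.smallEtaleTopology

variable {Λ : Type (u + 1)} [CommRing Λ] {X Y : Scheme.{u}} (f : X ⟶ Y) {Ω : Type u} [Field Ω] [IsSepClosed Ω]
  (ξ : Spec (CommRingCat.of Ω) ⟶ X)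

/-- The canonical map from the stalk of a direct image. -/
noncomputable def pushStalkMap (F : EtModW.Mod Λ X) :
    (EtModW.stalk Λ (ξ ≫ f)).obj ((EtModW.push Λ f).obj F) ⟶ (EtModW.stalk Λ ξ).obj F :=
  (Scheme.pointSmallEtale (ξ ≫ f)).presheafFiberDesc (P := ((EtModW.push Λ f).obj F).obj)
    (fun V s => (Scheme.pointSmallEtale ξ).toPresheafFiber ((EtCoh.bc f).obj V) (ptUp f ξ s) F.obj)
    (fun V W g s => by
      refine ((Scheme.pointSmallEtale ξ).toPresheafFiber_w ((EtCoh.bc f).map g) (ptUp f ξ s) F.obj).trans ?_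
      rw [ptUp_map])

theorem pushStalkMap_germ (F : EtModW.Mod Λ X) {V : Y.Etale} (s : Pt (ξ ≫ f) V)
    (σ : EtModW.sect Λ F ((EtCoh.bc f).obj V)) :
    pushStalkMap f ξ F (germ (ξ ≫ f) ((EtModW.push Λ f).obj F) s σ) = germ ξ F (ptUp f ξ s) σ :=
  ConcreteCategory.congr_hom ((Scheme.pointSmallEtale (ξ ≫ f)).toPresheafFiber_presheafFiberDesc
    (P := ((EtModW.push Λ f).obj F).obj) (fun V s =>
      (Scheme.pointSmallEtale ξ).toPresheafFiber ((EtCoh.bc f).obj V) (ptUp f ξ s) F.obj) _ V s) σ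


/-- The map to the pushed forward skyscraper. -/
noncomputable def toPushSky (f : X ⟶ Y) {Ω : Type u} [Field Ω] [IsSepClosed Ω]
    (ξ : Spec (CommRingCat.of Ω) ⟶ X) (F : EtModW.Mod Λ Y) :
    F ⟶ (EtModW.push Λ f).obj
      ((Scheme.pointSmallEtale ξ).skyscraperSheaf ((EtModW.stalk Λ (ξ ≫ f)).obj F)) :=
  ⟨{ app := fun U => Pi.lift fun t =>
      (Scheme.pointSmallEtale (ξ ≫ f)).toPresheafFiber U.unop (ptDown f ξ t) F.obj
     naturality := fun U V g => by
      refine Pi.hom_ext _ _ fun t => ?_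
      refine (Category.assoc _ _ _).trans ?_
      refine (congrArg (F.obj.map g ≫ ·) (Pi.lift_π _ t)).trans ?_
      refine Eq.trans ?_ (Category.assoc _ _ _).symm
      let A := (EtModW.stalk Λ (ξ ≫ f)).obj F
      have hm : ((EtModW.push Λ f).obj ((Scheme.pointSmallEtale ξ).skyscraperSheaf A)).obj.map g ≫
          Pi.π (fun _ : Pt ξ ((EtCoh.bc f).obj V.unop) => A) t =
          Pi.π (fun _ : Pt ξ ((EtCoh.bc f).obj U.unop) => A)
            ((Scheme.pointSmallEtale ξ).fiber.map ((EtCoh.bc f).map g.unop) t) :=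
        (Pi.map'_comp_π (f := fun _ : Pt ξ ((EtCoh.bc f).obj U.unop) => A)
          (g := fun _ : Pt ξ ((EtCoh.bc f).obj V.unop) => A)
          ((Scheme.pointSmallEtale ξ).fiber.map ((EtCoh.bc f).map g.unop)) (fun _ => 𝟙 A) t).trans
          (Category.comp_id _)
      refine Eq.trans ?_ (congrArg (CategoryStruct.comp _) hm).symm
      refine Eq.trans ?_ (Pi.lift_π (f := fun _ : Pt ξ ((EtCoh.bc f).obj U.unop) => A)
        (fun t => (Scheme.pointSmallEtale (ξ ≫ f)).toPresheafFiber U.unop (ptDown f ξ t) F.obj) _).symm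
      refine ((Scheme.pointSmallEtale (ξ ≫ f)).toPresheafFiber_w g.unop (ptDown f ξ t) F.obj).trans ?_
      exact congrArg (fun q => (Scheme.pointSmallEtale (ξ ≫ f)).toPresheafFiber U.unop q F.obj)
        (ptDown_map f ξ g.unop t).symm }⟩

/-- The canonical map from a stalk to the stalk of the inverse image. -/
noncomputable def theta (F : EtModW.Mod Λ Y) :
    (EtModW.stalk Λ (ξ ≫ f)).obj F ⟶ (EtModW.stalk Λ ξ).obj ((EtModW.pull Λ f).obj F) :=
  (EtModW.stalk Λ (ξ ≫ f)).map ((modAdj Λ f).unit.app F) ≫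
    pushStalkMap f ξ ((EtModW.pull Λ f).obj F)

theorem theta_germ (F : EtModW.Mod Λ Y) {V : Y.Etale} (s : Pt (ξ ≫ f) V) (σ : EtModW.sect Λ F V) :
    theta f ξ F (germ (ξ ≫ f) F s σ) = germ ξ ((EtModW.pull Λ f).obj F) (ptUp f ξ s)
      (((modAdj Λ f).unit.app F).hom.app (op V) σ) := by
  refine (congrArg (pushStalkMap f ξ ((EtModW.pull Λ f).obj F))
    (stalk_map_germ (ξ ≫ f) ((modAdj Λ f).unit.app F) s σ)).trans ?_
  exact pushStalkMap_germ f ξ _ s _

theorem theta_cancel (F : EtModW.Mod Λ Y) {M : ModuleCat.{u + 1} Λ}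
    {h₁ h₂ : (EtModW.stalk Λ ξ).obj ((EtModW.pull Λ f).obj F) ⟶ M}
    (h : theta f ξ F ≫ h₁ = theta f ξ F ≫ h₂) : h₁ = h₂ := by
  let Φ := Scheme.pointSmallEtale ξ
  apply (Φ.skyscraperSheafAdjunction.homEquiv ((EtModW.pull Λ f).obj F) M).injective
  apply ((modAdj Λ f).homEquiv F (Φ.skyscraperSheaf M)).injective
  have key : ∀ (k : (EtModW.stalk Λ ξ).obj ((EtModW.pull Λ f).obj F) ⟶ M) (V : Y.Etale)
      (t : Pt ξ ((EtCoh.bc f).obj V)) (σ : EtModW.sect Λ F V),
      Pi.π (fun _ : Pt ξ ((EtCoh.bc f).obj V) => M) t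
        ((((modAdj Λ f).homEquiv F (Φ.skyscraperSheaf M))
          ((Φ.skyscraperSheafAdjunction.homEquiv ((EtModW.pull Λ f).obj F) M) k)).hom.app (op V) σ) =
      k (theta f ξ F (germ (ξ ≫ f) F (ptDown f ξ t) σ)) := by
    intro k V t σ
    rw [theta_germ, ptUp_ptDown, Adjunction.homEquiv_unit]
    have h1 := Φ.skyscraperSheafAdjunction_homEquiv_apply_hom (F := (EtModW.pull Λ f).obj F) (M := M) k
    have h2 : ((Φ.skyscraperSheafAdjunction.homEquiv ((EtModW.pull Λ f).obj F) M) k).hom.app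
        (op ((EtCoh.bc f).obj V)) ≫ Pi.π (fun _ : Pt ξ ((EtCoh.bc f).obj V) => M) t =
        Φ.toPresheafFiber ((EtCoh.bc f).obj V) t ((EtModW.pull Λ f).obj F).obj ≫ k := by
      exact (congrArg (fun (N : _ ⟶ Φ.skyscraperPresheaf M) =>
        N.app (op ((EtCoh.bc f).obj V)) ≫ Pi.π (fun _ : Pt ξ ((EtCoh.bc f).obj V) => M) t) h1).trans
        (Φ.skyscraperPresheafHomEquiv_app_π k _ t)
    exact ConcreteCategory.congr_hom h2 (((modAdj Λ f).unit.app F).hom.app (op V) σ)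
  refine ObjectProperty.hom_ext _ (NatTrans.ext (funext fun V => ?_))
  refine Pi.hom_ext _ _ fun t => ConcreteCategory.hom_ext _ _ fun σ => ?_
  rw [ConcreteCategory.comp_apply, ConcreteCategory.comp_apply]
  exact (key h₁ V.unop t σ).trans
    ((ConcreteCategory.congr_hom h (germ (ξ ≫ f) F (ptDown f ξ t) σ)).trans (key h₂ V.unop t σ).symm)

theorem exists_theta_retraction (F : EtModW.Mod Λ Y) :
    ∃ r : (EtModW.stalk Λ ξ).obj ((EtModW.pull Λ f).obj F) ⟶ (EtModW.stalk Λ (ξ ≫ f)).obj F,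
      theta f ξ F ≫ r = 𝟙 _ := by
  let Φ := Scheme.pointSmallEtale ξ
  let M := (EtModW.stalk Λ (ξ ≫ f)).obj F
  let φ := toPushSky f ξ F
  let ψ := ((modAdj Λ f).homEquiv F (Φ.skyscraperSheaf M)).symm φ
  let r := (Φ.skyscraperSheafAdjunction.homEquiv ((EtModW.pull Λ f).obj F) M).symm ψ
  refine ⟨r, ConcreteCategory.hom_ext _ _ fun a => ?_⟩
  obtain ⟨V, s, σ, rfl⟩ := exists_germ_eq (ξ ≫ f) F a
  rw [ConcreteCategory.comp_apply, theta_germ]
  have h : (modAdj Λ f).unit.app F ≫ (EtModW.push Λ f).map ψ = φ :=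
    ((modAdj Λ f).homEquiv_unit _ _ ψ).symm.trans (Equiv.apply_symm_apply _ _)
  have hr : Φ.toPresheafFiber ((EtCoh.bc f).obj V) (ptUp f ξ s) ((EtModW.pull Λ f).obj F).obj ≫ r =
      ψ.hom.app (op ((EtCoh.bc f).obj V)) ≫
        Pi.π (fun _ : Pt ξ ((EtCoh.bc f).obj V) => M) (ptUp f ξ s) :=
    (congrArg (Φ.toPresheafFiber ((EtCoh.bc f).obj V) (ptUp f ξ s) ((EtModW.pull Λ f).obj F).obj ≫ ·)
      (Φ.skyscraperSheafAdjunction_homEquiv_symm_apply ψ)).trans
      (Φ.toPresheafFiber_skyscraperPresheafHomEquiv_symm ψ.hom _ _)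
  refine (ConcreteCategory.congr_hom hr (((modAdj Λ f).unit.app F).hom.app (op V) σ)).trans ?_
  have h' : φ.hom.app (op V) ≫ Pi.π (fun _ : Pt ξ ((EtCoh.bc f).obj V) => M) (ptUp f ξ s) =
      (Scheme.pointSmallEtale (ξ ≫ f)).toPresheafFiber V (ptDown f ξ (ptUp f ξ s)) F.obj :=
    Pi.lift_π _ _
  rw [← h, ptDown_ptUp] at h'
  exact ConcreteCategory.congr_hom h' σ

theorem theta_bijective (F : EtModW.Mod Λ Y) : Function.Bijective (theta f ξ F) := by
  obtain ⟨r, hr⟩ := exists_theta_retraction f ξ F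
  have hr' : r ≫ theta f ξ F = 𝟙 _ := theta_cancel f ξ F
    ((Category.assoc _ _ _).symm.trans (((congrArg (· ≫ theta f ξ F) hr).trans
      (Category.id_comp _)).trans (Category.comp_id _).symm))
  exact Function.bijective_iff_has_inverse.2
    ⟨r, fun a => ConcreteCategory.congr_hom hr a, fun a => ConcreteCategory.congr_hom hr' a⟩


end Groth.Agent.LocConst45.Mod
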