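import Groth.Agent.LocConst45.ModMain
import Groth.Agent.LocConst45.ModPull
import Groth.Agent.LocConst45.AbPull

/-!
Inverse images of trivialised sheaves of modules.
-/

set_option autoImplicit false
set_option backward.isDefEq.respectTransparency.types false
universe u

open CategoryTheory CategoryTheory.Limits AlgebraicGeometry Opposite
open Groth.Agent.Unr55.EtSh (Pt hom mkPt ptUp ptDown ptUp_ptDown ptDown_ptUp point_over)
open Groth.Agent.LocConst45 (exists_pt_over exists_pull_pt)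

namespace Groth.Agent.LocConst45.Mod

variable {Λ : Type (u + 1)} [CommRing Λ] {X Y : Scheme.{u}} (f : X ⟶ Y)

theorem pull_triv {F : EtModW.Mod Λ Y} {U : Y.Etale} {M : Type (u + 1)} [AddCommGroup M] [Module Λ M]
    {σ : M →ₗ[Λ] EtModW.sect Λ F U} (h : IsTriv F U σ) :
    ∃ κ : M →ₗ[Λ] EtModW.sect Λ ((EtModW.pull Λ f).obj F) ((EtCoh.bc f).obj U), IsTriv ((EtModW.pull Λ f).obj F) ((EtCoh.bc f).obj U) κ := by
  let κ : M →ₗ[Λ] EtModW.sect Λ ((EtModW.pull Λ f).obj F) ((EtCoh.bc f).obj U) :=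
    (((modAdj Λ f).unit.app F).hom.app (op U)).hom.comp σ
  have hgerm : ∀ {K : Type u} [Field K] [IsSepClosed K] (η : Spec (CommRingCat.of K) ⟶ X)
      (q : Pt η ((EtCoh.bc f).obj U)) (m : M),
      germ η ((EtModW.pull Λ f).obj F) q (κ m) = theta f η F (germ (η ≫ f) F (ptDown f η q) (σ m)) := fun η q m => by
    rw [theta_germ, ptUp_ptDown]; rfl
  refine ⟨κ, fun W a m ⟨w⟩ hm => ?_, fun W a s x => ?_⟩
  · obtain ⟨K, _, _, η, t, -⟩ := point_over W w
    have h0 : germ η ((EtModW.pull Λ f).obj F) ((Scheme.pointSmallEtale η).fiber.map a t) (κ m) = 0 := by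
      rw [← germ_map, hm, map_zero]
    rw [hgerm] at h0
    obtain ⟨V, g, t', -, hV⟩ := (germ_eq_zero_iff _ F _ _).1
      ((theta_bijective f η F).1 (h0.trans (map_zero (theta f η F).hom).symm))
    exact h.inj V g m ⟨hom _ t' default⟩ hV
  · obtain ⟨K, _, _, η, t, ht⟩ := point_over W x
    obtain ⟨α, hα⟩ := (theta_bijective f η F).2 (germ η ((EtModW.pull Λ f).obj F) t s)
    obtain ⟨V₁, t₁, σ₁, rfl⟩ := exists_germ_eq (η ≫ f) F α
    let q := (Scheme.pointSmallEtale η).fiber.map a t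
    obtain ⟨⟨V₂, t₂⟩, c, d, -⟩ := IsCofiltered.toIsCofilteredOrEmpty.cone_objs
      (C := (Scheme.pointSmallEtale (η ≫ f)).fiber.Elements) ⟨U, ptDown f η q⟩ ⟨V₁, t₁⟩
    obtain ⟨V₃, g, v, m, hv, hm⟩ := h.surj V₂ c.val (F.obj.map d.val.op σ₁) (hom _ t₂ default)
    obtain ⟨t₃, ht₃⟩ := exists_pt_over g t₂ v hv
    have e : germ (η ≫ f) F t₁ σ₁ = germ (η ≫ f) F (ptDown f η q) (σ m) := by
      have h1 := congrArg (germ (η ≫ f) F t₃) hm
      rw [germ_map, germ_map, ht₃, map_comp', germ_map, ht₃, germ_map, c.property, d.property] at h1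
      exact h1
    rw [e, ← hgerm, ← germ_map] at hα
    have e0 : germ η ((EtModW.pull Λ f).obj F) t (s - ((EtModW.pull Λ f).obj F).obj.map a.op (κ m)) = 0 := by
      rw [map_sub, sub_eq_zero]; exact hα.symm
    obtain ⟨W', k, t', hk, h'⟩ := (germ_eq_zero_iff η _ t _).1 e0
    rw [map_sub, sub_eq_zero] at h'
    refine ⟨W', k, hom η t' default, m, ?_, h'.trans (map_comp' _ k a _).symm⟩
    rw [← ht]
    exact congrArg (fun r => hom η r default) hk

theorem pull_locTrivFin {G : EtModW.Mod Λ Y} (h : LocTrivFin G) : LocTrivFin ((EtModW.pull Λ f).obj G) := fun x => by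
  obtain ⟨U, u, M, _, _, _, σ, hu, hσ⟩ := h (f x)
  obtain ⟨w, hw⟩ := exists_pull_pt f x u hu
  obtain ⟨κ, hκ⟩ := pull_triv f hσ
  exact ⟨_, w, M, inferInstance, inferInstance, inferInstance, κ, hw, hκ⟩

theorem isFTLocConst_pull {G : EtModW.Mod Λ Y} (h : EtModW.IsFTLocConst Λ G) :
    EtModW.IsFTLocConst Λ ((EtModW.pull Λ f).obj G) :=
  (ftLocConst_iff _).2 (pull_locTrivFin f ((ftLocConst_iff G).1 h))

end Groth.Agent.LocConst45.Mod
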