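import Groth.Prelude.Def_EtBase
import Groth.Agent.Unr55.Et.Open
import Groth.Agent.EtCore45.SheafCrit
import Mathlib.CategoryTheory.Sites.LocallyBijective
import Mathlib.CategoryTheory.Sites.ConstantSheaf

/-!
Trivialisations of abelian etale sheaves by a value group, in terms of sections.
-/

set_option autoImplicit false
set_option backward.isDefEq.respectTransparency.types false
universe u

open CategoryTheory CategoryTheory.Limits AlgebraicGeometry Opposite
open Groth.Agent.Unr55.EtSh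

namespace Groth.Agent.LocConst45

variable {X : Scheme.{u}}

/-- `σ` exhibits `M` as the value of `F` over `U`. -/
structure IsTriv (F : EtCoh.Ab X) (U : X.Etale) {M : Type (u + 1)} [AddCommGroup M]
    (σ : M →+ EtCoh.sect F U) : Prop where
  inj : ∀ (W : X.Etale) (a : W ⟶ U) (m : M), Nonempty W.left → F.obj.map a.op (σ m) = 0 → m = 0
  surj : ∀ (W : X.Etale) (a : W ⟶ U) (s : EtCoh.sect F W) (x : W.left),
    ∃ (V : X.Etale) (g : V ⟶ W) (v : V.left) (m : M), g.left v = x ∧
      F.obj.map g.op s = F.obj.map (g ≫ a).op (σ m)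

theorem map_comp' (F : EtCoh.Ab X) {A B C : X.Etale} (g : C ⟶ B) (a : B ⟶ A) (s : EtCoh.sect F A) :
    F.obj.map (g ≫ a).op s = F.obj.map g.op (F.obj.map a.op s) := by
  rw [op_comp, Functor.map_comp, ConcreteCategory.comp_apply]

theorem mem_over {U : X.Etale} {W : Over U} {S : Sieve W}
    (h : ∀ x : W.left.left, ∃ (V : X.Etale) (g : V ⟶ W.left) (v : V.left),
      S (Over.homMk g rfl : Over.mk (g ≫ W.hom) ⟶ W) ∧ g.left v = x) :
    S ∈ X.smallEtaleTopology.over U W := by
  rw [GrothendieckTopology.mem_over_iff]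
  refine mem_topology fun x => ?_
  obtain ⟨V, g, v, hg, hv⟩ := h x
  exact ⟨V, g, v, (Sieve.overEquiv_iff _ _).2 hg, hv⟩

theorem exists_of_mem_over {U : X.Etale} {W : Over U} {S : Sieve W}
    (h : S ∈ X.smallEtaleTopology.over U W) (x : W.left.left) :
    ∃ (V : X.Etale) (g : V ⟶ W.left) (v : V.left),
      S (Over.homMk g rfl : Over.mk (g ≫ W.hom) ⟶ W) ∧ g.left v = x := by
  rw [GrothendieckTopology.mem_over_iff, EtCore45.mem_et] at h
  obtain ⟨V, g, v, hg, -, hv⟩ := h x
  exact ⟨V, g, v, (Sieve.overEquiv_iff _ _).1 hg, hv⟩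

variable {F : EtCoh.Ab X} {U : X.Etale} {M : Type (u + 1)} [AddCommGroup M]

/-- The map of presheaves on the slice given by `σ`. -/
noncomputable def trivMap (σ : M →+ EtCoh.sect F U) :
    (Functor.const (Over U)ᵒᵖ).obj (AddCommGrpCat.of M) ⟶ (EtCoh.restr F U).obj where
  app W := AddCommGrpCat.ofHom ((F.obj.map W.unop.hom.op).hom.comp σ)
  naturality W V k := ConcreteCategory.hom_ext _ _ fun m => by
    change F.obj.map V.unop.hom.op (σ m) = F.obj.map k.unop.left.op (F.obj.map W.unop.hom.op (σ m))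
    rw [← map_comp', Over.w k.unop]

theorem isLocallyInjective_trivMap {σ : M →+ EtCoh.sect F U} (h : IsTriv F U σ) :
    Presheaf.IsLocallyInjective (X.smallEtaleTopology.over U) (trivMap σ) := ⟨by
  intro W m n hmn
  refine mem_over fun x => ⟨W.unop.left, 𝟙 _, x, ?_, rfl⟩
  change (m : M) = n
  refine sub_eq_zero.1 (h.inj W.unop.left W.unop.hom _ ⟨x⟩ ?_)
  rw [map_sub, map_sub, sub_eq_zero]
  exact hmn⟩

theorem isLocallySurjective_trivMap {σ : M →+ EtCoh.sect F U} (h : IsTriv F U σ) :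
    Presheaf.IsLocallySurjective (X.smallEtaleTopology.over U) (trivMap σ) := ⟨by
  intro W s
  refine mem_over fun x => ?_
  obtain ⟨V, g, v, m, hv, hm⟩ := h.surj W.left W.hom s x
  exact ⟨V, g, v, ⟨m, hm.symm⟩, hv⟩⟩

theorem exists_iso_of_triv {σ : M →+ EtCoh.sect F U} (h : IsTriv F U σ) :
    Nonempty (EtCoh.restr F U ≅
      (constantSheaf (X.smallEtaleTopology.over U) AddCommGrpCat.{u + 1}).obj (AddCommGrpCat.of M)) := by
  have := isLocallyInjective_trivMap h
  have := isLocallySurjective_trivMap h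
  exact ⟨(@asIso _ _ _ _ ((presheafToSheaf (X.smallEtaleTopology.over U) AddCommGrpCat.{u + 1}).map (trivMap σ))
      (((X.smallEtaleTopology.over U).W_iff _).1
        ((X.smallEtaleTopology.over U).W_of_isLocallyBijective (trivMap σ))) ≪≫
    (sheafificationIso (EtCoh.restr F U)).symm).symm⟩

theorem exists_triv_of_iso
    (e : EtCoh.restr F U ≅
      (constantSheaf (X.smallEtaleTopology.over U) AddCommGrpCat.{u + 1}).obj (AddCommGrpCat.of M)) :
    ∃ σ : M →+ EtCoh.sect F U, IsTriv F U σ := by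
  let J := X.smallEtaleTopology.over U
  let P : (Over U)ᵒᵖ ⥤ AddCommGrpCat.{u + 1} := (Functor.const (Over U)ᵒᵖ).obj (AddCommGrpCat.of M)
  let φ : P ⟶ (EtCoh.restr F U).obj := toSheafify J P ≫ e.inv.hom
  have : IsIso e.inv.hom := inferInstanceAs (IsIso ((sheafToPresheaf _ _).map e.inv))
  have : Presheaf.IsLocallyInjective J (toSheafify J P) := Presheaf.isLocallyInjective_toSheafify' J P
  have : Presheaf.IsLocallySurjective J (toSheafify J P) := Presheaf.isLocallySurjective_toSheafify' J P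
  have hb : ∀ W, Function.Bijective (e.inv.hom.app W) := fun W =>
    have : IsIso (e.inv.hom.app W) := inferInstanceAs (IsIso (((sheafToPresheaf _ _).map e.inv).app W))
    ConcreteCategory.bijective_of_isIso _
  let σ : M →+ EtCoh.sect F U := (φ.app (op (Over.mk (𝟙 U)))).hom
  have hnat : ∀ (W : Over U) (m : M), φ.app (op W) m = F.obj.map W.hom.op (σ m) := fun W m =>
    ConcreteCategory.congr_hom (φ.naturality (Over.homMk W.hom (Category.comp_id _) : W ⟶ Over.mk (𝟙 U)).op) m
  refine ⟨σ, fun W a m ⟨x⟩ hm => ?_, fun W a s x => ?_⟩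
  · have h0 : φ.app (op (Over.mk a)) m = φ.app (op (Over.mk a)) 0 :=
      ((hnat _ m).trans hm).trans (map_zero (φ.app (op (Over.mk a))).hom).symm
    have h := Presheaf.equalizerSieve_mem J (toSheafify J P) (X := op (Over.mk a)) m 0 ((hb _).1 h0)
    obtain ⟨V, g, v, hg, -⟩ := exists_of_mem_over h x
    exact hg
  · obtain ⟨t, ht⟩ := (hb (op (Over.mk a))).2 s
    obtain ⟨V, g, v, ⟨m, hm⟩, hv⟩ := exists_of_mem_over (Presheaf.imageSieve_mem J (toSheafify J P) (U := op (Over.mk a)) t) x
    refine ⟨V, g, v, m, hv, Eq.trans ?_ (hnat (Over.mk (g ≫ a)) m)⟩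
    refine Eq.trans ?_ (congrArg (e.inv.hom.app (op (Over.mk (g ≫ a)))) hm).symm
    rw [← ht]
    exact (NatTrans.naturality_apply e.inv.hom (Over.homMk g rfl : Over.mk (g ≫ a) ⟶ Over.mk a).op t).symm

theorem nonempty_iso_iff :
    Nonempty (EtCoh.restr F U ≅
      (constantSheaf (X.smallEtaleTopology.over U) AddCommGrpCat.{u + 1}).obj (AddCommGrpCat.of M)) ↔
      ∃ σ : M →+ EtCoh.sect F U, IsTriv F U σ :=
  ⟨fun ⟨e⟩ => exists_triv_of_iso e, fun ⟨_, h⟩ => exists_iso_of_triv h⟩

namespace IsTriv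

variable {σ : M →+ EtCoh.sect F U}

/-- Restriction of a trivialisation. -/
theorem restrict (h : IsTriv F U σ) {W : X.Etale} (a : W ⟶ U) :
    IsTriv F W ((F.obj.map a.op).hom.comp σ) := by
  refine ⟨fun V b m hV hm => h.inj V (b ≫ a) m hV ((map_comp' F b a _).trans hm), fun V b s x => ?_⟩
  obtain ⟨V', g, v, m, hv, hm⟩ := h.surj V (b ≫ a) s x
  refine ⟨V', g, v, m, hv, ?_⟩
  rw [hm, ← Category.assoc, map_comp' F (g ≫ b) a]
  rfl

/-- Sections near a point are values, for finitely many sections at once. -/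
theorem exists_values (h : IsTriv F U σ) {ι : Type*} [Finite ι] {W : X.Etale} (a : W ⟶ U)
    (s : ι → EtCoh.sect F W) (x : W.left) :
    ∃ (V : X.Etale) (g : V ⟶ W) (v : V.left) (m : ι → M), g.left v = x ∧
      ∀ i, F.obj.map g.op (s i) = F.obj.map (g ≫ a).op (σ (m i)) := by
  have := Fintype.ofFinite ι
  suffices ∀ t : Finset ι, ∃ (V : X.Etale) (g : V ⟶ W) (v : V.left) (m : ι → M), g.left v = x ∧
      ∀ i ∈ t, F.obj.map g.op (s i) = F.obj.map (g ≫ a).op (σ (m i)) by
    obtain ⟨V, g, v, m, hv, hm⟩ := this Finset.univ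
    exact ⟨V, g, v, m, hv, fun i => hm i (Finset.mem_univ i)⟩
  intro t
  induction t using Finset.cons_induction with
  | empty => exact ⟨W, 𝟙 W, x, 0, rfl, fun i hi => absurd hi (Finset.notMem_empty i)⟩
  | cons i t hi ih =>
    obtain ⟨V, g, v, m, hv, hm⟩ := ih
    obtain ⟨V', g', v', n, hv', hn⟩ := h.surj V (g ≫ a) (F.obj.map g.op (s i)) v
    classical
    refine ⟨V', g' ≫ g, v', Function.update m i n, ?_, fun j hj => ?_⟩
    · rw [← hv, ← hv']; rfl
    · rcases Finset.mem_cons.1 hj with rfl | hj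
      · rw [Function.update_self, map_comp', Category.assoc]; exact hn
      · rw [Function.update_of_ne (fun e => hi (by rw [e] at hj; exact hj)), map_comp', hm j hj, Category.assoc, map_comp' F g']

end IsTriv

/-- A map between trivialised sheaves is locally induced by a homomorphism. -/
theorem exists_hom {G : EtCoh.Ab X} {N : Type (u + 1)} [AddCommGroup N] (φ : F ⟶ G)
    {σ : M →+ EtCoh.sect F U} {τ : N →+ EtCoh.sect G U} (hτ : IsTriv G U τ)
    [Module.Finite ℤ M] {W : X.Etale} (a : W ⟶ U) (x : W.left) :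
    ∃ (V : X.Etale) (g : V ⟶ W) (v : V.left) (h : M →+ N), g.left v = x ∧
      ∀ m, φ.hom.app (op V) (F.obj.map (g ≫ a).op (σ m)) = G.obj.map (g ≫ a).op (τ (h m)) := by
  obtain ⟨k, f, hf⟩ := Module.Finite.exists_fin' ℤ M
  let b : Fin k → M := fun i => f (Pi.single i 1)
  obtain ⟨V, g, v, n, hv, hn⟩ := hτ.exists_values a
    (fun i => φ.hom.app (op W) (F.obj.map a.op (σ (b i)))) x
  let f' : (Fin k → ℤ) →+ N := (Fintype.linearCombination ℤ n).toAddMonoidHom
  let A : M →+ EtCoh.sect G V := (φ.hom.app (op V)).hom.comp ((F.obj.map (g ≫ a).op).hom.comp σ)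
  let B : N →+ EtCoh.sect G V := (G.obj.map (g ≫ a).op).hom.comp τ
  have hAB : ∀ c, A (f c) = B (f' c) := by
    intro c
    have : A.comp f.toAddMonoidHom = B.comp f' := by
      apply AddMonoidHom.toIntLinearMap_injective
      refine (Pi.basisFun ℤ (Fin k)).ext fun i => ?_
      rw [Pi.basisFun_apply]
      change A (b i) = B (Fintype.linearCombination ℤ n (Pi.single i 1))
      rw [Fintype.linearCombination_apply_single, one_smul]
      change φ.hom.app (op V) (F.obj.map (g ≫ a).op (σ (b i))) = G.obj.map (g ≫ a).op (τ (n i))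
      rw [← hn i, map_comp']
      exact NatTrans.naturality_apply φ.hom g.op _
    exact DFunLike.congr_fun this c
  have hker : ∀ c, f c = 0 → f' c = 0 := fun c hc =>
    hτ.inj V (g ≫ a) _ ⟨v⟩ ((hAB c).symm.trans (by rw [hc, map_zero]))
  choose sec hsec using hf
  refine ⟨V, g, v, AddMonoidHom.mk' (fun m => f' (sec m)) (fun m m' => ?_), hv, fun m => ?_⟩
  · rw [← sub_eq_zero, ← map_add, ← map_sub]
    exact hker _ (by simp [hsec])
  · change A m = B (f' (sec m))
    rw [← hAB, hsec]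

end Groth.Agent.LocConst45
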