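import Groth.Agent.LocConst45.ModTriv
import Groth.Agent.Unr55.Et.LocConstTriv
import Mathlib.Algebra.Homology.ShortComplex.ModuleCat
import Mathlib.CategoryTheory.Abelian.Exact
import Mathlib.CategoryTheory.Sites.EpiMono
import Mathlib.RingTheory.Noetherian.Basic

/-!
Kernels, cokernels and extensions of locally constant abelian etale sheaves.
-/

set_option autoImplicit false
set_option backward.isDefEq.respectTransparency.types false
universe u

open CategoryTheory CategoryTheory.Limits AlgebraicGeometry Opposite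
open Groth.Agent.Unr55.EtSh

namespace Groth.Agent.LocConst45.Mod

variable {Λ : Type (u + 1)} [CommRing Λ] {X : Scheme.{u}}

theorem exists_local_preimage_of_epi {F G : EtModW.Mod Λ X} (φ : F ⟶ G) [Epi φ] {W : X.Etale}
    (s : EtModW.sect Λ G W) (x : W.left) :
    ∃ (V : X.Etale) (g : V ⟶ W) (v : V.left) (t : EtModW.sect Λ F V),
      g.left v = x ∧ φ.hom.app (op V) t = G.obj.map g.op s := by
  have : Sheaf.IsLocallySurjective φ := (Sheaf.isLocallySurjective_iff_epi' (ModuleCat.{u + 1} Λ) φ).2 inferInstance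
  obtain ⟨V, g, v, ⟨t, ht⟩, -, hv⟩ := (EtCore45.mem_et _).1 (Presheaf.imageSieve_mem X.smallEtaleTopology φ.hom s) x
  exact ⟨V, g, v, t, hv, ht⟩

theorem exists_preimage_of_exact {S : ShortComplex (EtModW.Mod Λ X)} (hS : S.Exact) [Mono S.f] {W : X.Etale}
    (s : EtModW.sect Λ S.X₂ W) (h : S.g.hom.app (op W) s = 0) :
    ∃ t : EtModW.sect Λ S.X₁ W, S.f.hom.app (op W) t = s := by
  let G : EtModW.Mod Λ X ⥤ (ModuleCat.{u + 1} Λ) := sheafToPresheaf _ _ ⋙ (evaluation _ _).obj (op W)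
  have : G.PreservesZeroMorphisms := ⟨fun _ _ => rfl⟩
  have hG : (S.map G).Exact :=
    ShortComplex.exact_of_f_is_kernel _ (KernelFork.mapIsLimit _ hS.fIsKernel G)
  exact (ShortComplex.moduleCat_exact_iff _).1 hG s h

theorem injective_app_of_mono {F G : EtModW.Mod Λ X} (φ : F ⟶ G) [Mono φ] (W : X.Etale) :
    Function.Injective (φ.hom.app (op W)) := by
  have : Mono ((sheafToPresheaf _ _).map φ) := inferInstance
  exact (ModuleCat.mono_iff_injective _).1 (((NatTrans.mono_iff_mono_app _).1 this) (op W))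

theorem exists_local_preimage_of_exact {S : ShortComplex (EtModW.Mod Λ X)} (hS : S.Exact) {W : X.Etale}
    (s : EtModW.sect Λ S.X₂ W) (h : S.g.hom.app (op W) s = 0) (x : W.left) :
    ∃ (V : X.Etale) (g : V ⟶ W) (v : V.left) (t : EtModW.sect Λ S.X₁ V),
      g.left v = x ∧ S.f.hom.app (op V) t = S.X₂.obj.map g.op s := by
  have : Epi (kernel.lift S.g S.f S.zero) := (S.exact_iff_epi_kernel_lift).1 hS
  let T : ShortComplex (EtModW.Mod Λ X) := ShortComplex.mk (kernel.ι S.g) S.g (kernel.condition _)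
  have : Mono T.f := inferInstanceAs (Mono (kernel.ι S.g))
  have hT : T.Exact := ShortComplex.exact_of_f_is_kernel _ (kernelIsKernel S.g)
  obtain ⟨t', ht'⟩ := exists_preimage_of_exact hT s h
  obtain ⟨V, g, v, t, hv, ht⟩ := exists_local_preimage_of_epi (kernel.lift S.g S.f S.zero) t' x
  refine ⟨V, g, v, t, hv, ?_⟩
  have e : S.f.hom.app (op V) t = (kernel.ι S.g).hom.app (op V) ((kernel.lift S.g S.f S.zero).hom.app (op V) t) :=
    congrArg (fun k : S.X₁ ⟶ S.X₂ => k.hom.app (op V) t) (kernel.lift_ι S.g S.f S.zero).symm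
  rw [e, ht]
  exact (NatTrans.naturality_apply (kernel.ι S.g).hom g.op t').trans (congrArg _ ht')

theorem IsTriv.congr {F : EtModW.Mod Λ X} {U : X.Etale} {M N : Type (u + 1)} [AddCommGroup M] [AddCommGroup N] [Module Λ M] [Module Λ N]
    {σ : M →ₗ[Λ] EtModW.sect Λ F U} (h : IsTriv F U σ) (e : N ≃ₗ[Λ] M) : IsTriv F U (σ.comp e.toLinearMap) := by
  refine ⟨fun W a n hW hn => e.injective ((h.inj W a (e n) hW hn).trans (map_zero e).symm), fun W a s x => ?_⟩
  obtain ⟨V, g, v, m, hv, hm⟩ := h.surj W a s x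
  exact ⟨V, g, v, e.symm m, hv, by simpa using hm⟩

variable {U : X.Etale} {M N : Type (u + 1)} [AddCommGroup M] [AddCommGroup N] [Module Λ M] [Module Λ N]

theorem map_trivs {F G : EtModW.Mod Λ X} (φ : F ⟶ G) {σ : M →ₗ[Λ] EtModW.sect Λ F U} {τ : N →ₗ[Λ] EtModW.sect Λ G U}
    {h : M →ₗ[Λ] N} (he : ∀ m, φ.hom.app (op U) (σ m) = τ (h m)) {W : X.Etale} (a : W ⟶ U) (m : M) :
    φ.hom.app (op W) (F.obj.map a.op (σ m)) = G.obj.map a.op (τ (h m)) :=
  (NatTrans.naturality_apply φ.hom a.op _).trans (congrArg _ (he m))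

theorem kernel_triv {F G : EtModW.Mod Λ X} (φ : F ⟶ G) {σ : M →ₗ[Λ] EtModW.sect Λ F U} {τ : N →ₗ[Λ] EtModW.sect Λ G U}
    (hσ : IsTriv F U σ) (hτ : IsTriv G U τ) (h : M →ₗ[Λ] N) (he : ∀ m, φ.hom.app (op U) (σ m) = τ (h m)) :
    ∃ κ : h.ker →ₗ[Λ] EtModW.sect Λ (kernel φ) U, IsTriv (kernel φ) U κ := by
  let S : ShortComplex (EtModW.Mod Λ X) := ShortComplex.mk (kernel.ι φ) φ (kernel.condition _)
  have : Mono S.f := inferInstanceAs (Mono (kernel.ι φ))
  have hS : S.Exact := ShortComplex.exact_of_f_is_kernel _ (kernelIsKernel φ)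
  choose l hl using fun m : h.ker => exists_preimage_of_exact hS (σ m.1)
    ((he m.1).trans ((congrArg τ m.2).trans (map_zero τ)))
  have hinj := injective_app_of_mono (kernel.ι φ) U
  let κ : h.ker →ₗ[Λ] EtModW.sect Λ (kernel φ) U :=
    { toFun := l
      map_add' := fun m n => hinj (by
        rw [map_add]
        exact (hl _).trans ((map_add σ m.1 n.1).trans (congrArg₂ (· + ·) (hl m).symm (hl n).symm)))
      map_smul' := fun r m => hinj (by
        rw [RingHom.id_apply, map_smul]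
        exact (hl _).trans ((map_smul σ r m.1).trans (congrArg (r • ·) (hl m).symm))) }
  refine ⟨κ, ⟨fun W a m hW hm => Subtype.ext (hσ.inj W a m.1 hW ?_), fun W a s x => ?_⟩⟩
  · refine (congrArg (F.obj.map a.op) (hl m).symm).trans ?_
    refine (NatTrans.naturality_apply (kernel.ι φ).hom a.op (l m)).symm.trans ?_
    exact (congrArg _ hm).trans (map_zero _)
  · obtain ⟨V, g, v, m, hv, hm⟩ := hσ.surj W a ((kernel.ι φ).hom.app (op W) s) x
    have h0 : φ.hom.app (op V) (F.obj.map (g ≫ a).op (σ m)) = 0 := by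
      rw [← hm]
      refine (NatTrans.naturality_apply φ.hom g.op _).trans ?_
      exact (congrArg (G.obj.map g.op) (congrArg (fun k : kernel φ ⟶ G => k.hom.app (op W) s) (kernel.condition φ))).trans
        (map_zero _)
    have hm0 : m ∈ h.ker := hτ.inj V (g ≫ a) (h m) ⟨v⟩ ((map_trivs φ he _ m).symm.trans h0)
    refine ⟨V, g, v, ⟨m, hm0⟩, hv, injective_app_of_mono (kernel.ι φ) V ?_⟩
    refine (NatTrans.naturality_apply (kernel.ι φ).hom g.op s).trans (hm.trans ?_)
    exact (congrArg _ (hl ⟨m, hm0⟩).symm).trans (NatTrans.naturality_apply (kernel.ι φ).hom (g ≫ a).op _).symm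

theorem cokernel_triv {F G : EtModW.Mod Λ X} (φ : F ⟶ G) {σ : M →ₗ[Λ] EtModW.sect Λ F U} {τ : N →ₗ[Λ] EtModW.sect Λ G U}
    (hσ : IsTriv F U σ) (hτ : IsTriv G U τ) (h : M →ₗ[Λ] N) (he : ∀ m, φ.hom.app (op U) (σ m) = τ (h m)) :
    ∃ κ : N ⧸ h.range →ₗ[Λ] EtModW.sect Λ (cokernel φ) U, IsTriv (cokernel φ) U κ := by
  let π := cokernel.π φ
  have hz : ∀ (W : X.Etale) (t : EtModW.sect Λ F W), π.hom.app (op W) (φ.hom.app (op W) t) = 0 := fun W t =>
    congrArg (fun k : F ⟶ cokernel φ => k.hom.app (op W) t) (cokernel.condition φ)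
  let κ : N ⧸ h.range →ₗ[Λ] EtModW.sect Λ (cokernel φ) U := Submodule.liftQ h.range ((π.hom.app (op U)).hom.comp τ) (by
    rintro _ ⟨m, rfl⟩
    change π.hom.app (op U) (τ (h m)) = 0
    rw [← he]; exact hz U _)
  refine ⟨κ, ⟨fun W a n hW hn => ?_, fun W a s x => ?_⟩⟩
  · obtain ⟨n, rfl⟩ := Submodule.Quotient.mk_surjective _ n
    obtain ⟨x⟩ := hW
    let S : ShortComplex (EtModW.Mod Λ X) := ShortComplex.mk φ π (cokernel.condition _)
    have hS : S.Exact := ShortComplex.exact_of_g_is_cokernel _ (cokernelIsCokernel φ)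
    obtain ⟨V, g, v, t, -, ht⟩ := exists_local_preimage_of_exact hS (G.obj.map a.op (τ n))
      ((NatTrans.naturality_apply π.hom a.op _).trans hn) x
    obtain ⟨V', g', v', m, -, hm⟩ := hσ.surj V (g ≫ a) t v
    refine (Submodule.Quotient.mk_eq_zero _).2 ⟨m, (sub_eq_zero.1 (hτ.inj V' (g' ≫ g ≫ a) (n - h m) ⟨v'⟩ ?_)).symm⟩
    rw [map_sub, map_sub, sub_eq_zero, ← map_trivs φ he, ← hm, map_comp' G g', map_comp' G g]
    exact (congrArg (G.obj.map g'.op) ht.symm).trans (NatTrans.naturality_apply φ.hom g'.op t).symm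
  · obtain ⟨V, g, v, t, hv, ht⟩ := exists_local_preimage_of_epi π s x
    obtain ⟨V', g', v', n, hv', hn⟩ := hτ.surj V (g ≫ a) t v
    refine ⟨V', g' ≫ g, v', Submodule.Quotient.mk n, ?_, ?_⟩
    · rw [← hv, ← hv']; rfl
    · rw [map_comp', ← ht]
      refine (NatTrans.naturality_apply π.hom g'.op t).symm.trans ?_
      rw [hn, Category.assoc]
      exact NatTrans.naturality_apply π.hom (g' ≫ g ≫ a).op (τ n)

theorem exists_preimages {F G : EtModW.Mod Λ X} (φ : F ⟶ G) [Epi φ] {ι : Type*} [Finite ι] {W : X.Etale}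
    (s : ι → EtModW.sect Λ G W) (x : W.left) :
    ∃ (V : X.Etale) (g : V ⟶ W) (v : V.left) (t : ι → EtModW.sect Λ F V),
      g.left v = x ∧ ∀ i, φ.hom.app (op V) (t i) = G.obj.map g.op (s i) := by
  classical
  have := Fintype.ofFinite ι
  suffices ∀ T : Finset ι, ∃ (V : X.Etale) (g : V ⟶ W) (v : V.left) (t : ι → EtModW.sect Λ F V), g.left v = x ∧
      ∀ i ∈ T, φ.hom.app (op V) (t i) = G.obj.map g.op (s i) by
    obtain ⟨V, g, v, t, hv, ht⟩ := this Finset.univ
    exact ⟨V, g, v, t, hv, fun i => ht i (Finset.mem_univ i)⟩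
  intro T
  induction T using Finset.cons_induction with
  | empty => exact ⟨W, 𝟙 W, x, 0, rfl, fun i hi => absurd hi (Finset.notMem_empty i)⟩
  | cons i T hi ih =>
    obtain ⟨V, g, v, t, hv, ht⟩ := ih
    obtain ⟨V', g', v', t', hv', ht'⟩ := exists_local_preimage_of_epi φ (G.obj.map g.op (s i)) v
    refine ⟨V', g' ≫ g, v', Function.update (fun j => F.obj.map g'.op (t j)) i t', ?_, fun j hj => ?_⟩
    · rw [← hv, ← hv']; rfl
    · rcases Finset.mem_cons.1 hj with rfl | hj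
      · rw [Function.update_self, map_comp']; exact ht'
      · rw [Function.update_of_ne (fun e => hi (by rw [e] at hj; exact hj)), map_comp', ← ht j hj]
        exact NatTrans.naturality_apply φ.hom g'.op _

theorem extension_triv {S : ShortComplex (EtModW.Mod Λ X)} (hS : S.ShortExact)
    {σ : M →ₗ[Λ] EtModW.sect Λ S.X₁ U} {τ : N →ₗ[Λ] EtModW.sect Λ S.X₃ U} (hσ : IsTriv S.X₁ U σ) (hτ : IsTriv S.X₃ U τ)
    [Module.Finite Λ N] [IsNoetherianRing Λ] (x : U.left) :
    ∃ (V : X.Etale) (g : V ⟶ U) (v : V.left) (Q : Submodule Λ (EtModW.sect Λ S.X₂ V)), g.left v = x ∧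
      IsTriv S.X₂ V Q.subtype ∧ (Module.Finite Λ M → Q.FG) := by
  have := hS.epi_g
  have := hS.mono_f
  obtain ⟨k, p, hp⟩ := Module.Finite.exists_fin' Λ N
  obtain ⟨V, g, v, e, hv, he⟩ := exists_preimages S.g (fun i : Fin k => τ (p (Pi.single i 1))) x
  let A : M →ₗ[Λ] EtModW.sect Λ S.X₂ V := (S.f.hom.app (op V)).hom.comp ((S.X₁.obj.map g.op).hom.comp σ)
  let E : (Fin k → Λ) →ₗ[Λ] EtModW.sect Λ S.X₂ V := Fintype.linearCombination Λ e
  let T : N →ₗ[Λ] EtModW.sect Λ S.X₃ V := (S.X₃.obj.map g.op).hom.comp τ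
  have hE : ∀ c, S.g.hom.app (op V) (E c) = T (p c) := by
    intro c
    have : (S.g.hom.app (op V)).hom.comp E = T.comp p := by
      refine (Pi.basisFun Λ (Fin k)).ext fun i => ?_
      rw [Pi.basisFun_apply]
      change S.g.hom.app (op V) (Fintype.linearCombination Λ e (Pi.single i 1)) = _
      rw [Fintype.linearCombination_apply_single, one_smul]
      exact he i
    exact LinearMap.congr_fun this c
  have hAg : ∀ {W : X.Etale} (t : EtModW.sect Λ S.X₁ W), S.g.hom.app (op W) (S.f.hom.app (op W) t) = 0 := fun t =>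
    congrArg (fun q : S.X₁ ⟶ S.X₃ => q.hom.app (op _) t) S.zero
  obtain ⟨r, R, hR⟩ := Module.Finite.exists_fin' Λ (LinearMap.ker p)
  choose t ht using fun l : Fin r => exists_preimage_of_exact hS.exact (E (R (Pi.single l 1)).1)
    (by rw [hE, LinearMap.mem_ker.1 (R (Pi.single l 1)).2, map_zero])
  obtain ⟨V', g', v', a, hv', ha⟩ := hσ.exists_values g t v
  let res := (S.X₂.obj.map g'.op).hom
  let Ψ : M × (Fin k → Λ) →ₗ[Λ] EtModW.sect Λ S.X₂ V' := (res.comp A).coprod (res.comp E)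
  have hrel : ∀ c, p c = 0 → ∃ m, res (E c) = res (A m) := by
    intro c hc
    obtain ⟨d, hd⟩ := hR ⟨c, hc⟩
    refine ⟨∑ l, d l • a l, ?_⟩
    have h1 : (c : Fin k → Λ) = ∑ l, d l • (R (Pi.single l 1)).1 := by
      have := congrArg Subtype.val hd.symm
      refine this.trans ?_
      conv_lhs => rw [pi_eq_sum_univ' d, map_sum]
      simp only [map_smul, AddSubmonoidClass.coe_finsetSum, SetLike.val_smul]
    rw [h1, map_sum, map_sum, map_sum, map_sum]
    refine Finset.sum_congr rfl fun l _ => ?_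
    rw [map_smul, map_smul, map_smul, map_smul]
    congr 1
    change S.X₂.obj.map g'.op (E (R (Pi.single l 1)).1) = S.X₂.obj.map g'.op (A (a l))
    rw [← ht l]
    refine (NatTrans.naturality_apply S.f.hom g'.op _).symm.trans ?_
    rw [ha l, map_comp']
    exact NatTrans.naturality_apply S.f.hom g'.op _
  have hg : ∀ q : M × (Fin k → Λ), S.g.hom.app (op V') (Ψ q) = S.X₃.obj.map (g' ≫ g).op (τ (p q.2)) := by
    intro q
    change S.g.hom.app (op V') (res (A q.1) + res (E q.2)) = _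
    rw [map_add, map_comp']
    have h1 : S.g.hom.app (op V') (res (A q.1)) = 0 :=
      (NatTrans.naturality_apply S.g.hom g'.op _).trans ((congrArg _ (hAg _)).trans (map_zero _))
    rw [h1, zero_add]
    exact (NatTrans.naturality_apply S.g.hom g'.op _).trans (congrArg _ (hE q.2))
  have hA : ∀ {W : X.Etale} (b : W ⟶ V') (m : M), S.X₂.obj.map b.op (res (A m)) =
      S.f.hom.app (op W) (S.X₁.obj.map (b ≫ g' ≫ g).op (σ m)) := by
    intro W b m
    change S.X₂.obj.map b.op (S.X₂.obj.map g'.op (S.f.hom.app (op V) _)) = _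
    rw [← map_comp']
    refine (NatTrans.naturality_apply S.f.hom (b ≫ g').op _).symm.trans ?_
    rw [← Category.assoc, map_comp' S.X₁ (b ≫ g') g]
    rfl
  refine ⟨V', g' ≫ g, v', Ψ.range, ?_, ⟨?_, ?_⟩, ?_⟩
  · rw [← hv, ← hv']; rfl
  · rintro W b ⟨_, ⟨m, c⟩, rfl⟩ hW h0
    apply Subtype.ext
    change S.X₂.obj.map b.op (Ψ (m, c)) = 0 at h0
    have hc : p c = 0 := by
      refine hτ.inj W (b ≫ g' ≫ g) _ hW ?_
      rw [map_comp']
      refine (congrArg (S.X₃.obj.map b.op) (hg (m, c)).symm).trans ?_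
      exact (NatTrans.naturality_apply S.g.hom b.op _).symm.trans ((congrArg _ h0).trans (map_zero _))
    obtain ⟨m', hm'⟩ := hrel c hc
    have e : Ψ (m, c) = res (A (m + m')) := by
      change res (A m) + res (E c) = _
      rw [hm', map_add, map_add]
    rw [e, hA] at h0
    have hmm : m + m' = 0 := hσ.inj W _ _ hW (injective_app_of_mono S.f W (h0.trans (map_zero _).symm))
    change Ψ (m, c) = 0
    rw [e, hmm, map_zero, map_zero]
  · intro W b s y
    obtain ⟨W₁, b₁, y₁, n, hy₁, hn⟩ := hτ.surj W (b ≫ g' ≫ g) (S.g.hom.app (op W) s) y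
    obtain ⟨c, rfl⟩ := hp n
    have h0 : S.g.hom.app (op W₁) (S.X₂.obj.map b₁.op s - S.X₂.obj.map (b₁ ≫ b).op (Ψ (0, c))) = 0 := by
      rw [map_sub, sub_eq_zero]
      refine (NatTrans.naturality_apply S.g.hom b₁.op s).trans (hn.trans ?_)
      refine Eq.trans ?_ (NatTrans.naturality_apply S.g.hom (b₁ ≫ b).op _).symm
      rw [hg, ← map_comp', Category.assoc]
    obtain ⟨t', ht'⟩ := exists_preimage_of_exact hS.exact _ h0
    obtain ⟨W₂, b₂, y₂, m, hy₂, hm⟩ := hσ.surj W₁ (b₁ ≫ b ≫ g' ≫ g) t' y₁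
    refine ⟨W₂, b₂ ≫ b₁, y₂, ⟨Ψ (m, c), ⟨(m, c), rfl⟩⟩, ?_, ?_⟩
    · rw [← hy₁, ← hy₂]; rfl
    · change _ = S.X₂.obj.map ((b₂ ≫ b₁) ≫ b).op (Ψ (m, c))
      have e : Ψ (m, c) = res (A m) + Ψ (0, c) := by
        change res (A m) + res (E c) = res (A m) + (res (A 0) + res (E c))
        rw [map_zero, map_zero, zero_add]
      rw [e, map_add, hA, Category.assoc, Category.assoc, ← hm, NatTrans.naturality_apply S.f.hom, ht', map_sub,
        map_comp' S.X₂ b₂ b₁, Category.assoc b₂ b₁ b, map_comp' S.X₂ b₂ (b₁ ≫ b), sub_add_cancel]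
  · intro _
    exact LinearMap.range_eq_map Ψ ▸ (Module.Finite.fg_top (R := Λ) (M := M × (Fin k → Λ))).map Ψ

end Groth.Agent.LocConst45.Mod
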